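/-
Iterated cores of a subgroup and its conjugate under an involution.
-/
import Mathlib

namespace CfsgLib.E8Cores

variable {G : Type*} [Group G]

/-- The largest subgroup of `X ⊓ M` normalised by `M`. -/
def coreIn (M X : Subgroup G) : Subgroup G := (X.subgroupOf M).normalCore.map M.subtype

theorem mem_coreIn {M X : Subgroup G} {y : G} :
    y ∈ coreIn M X ↔ y ∈ M ∧ ∀ m ∈ M, m * y * m⁻¹ ∈ X := by
  constructor
  · rintro ⟨z, hz, rfl⟩
    exact ⟨z.2, fun m hm => hz ⟨m, hm⟩⟩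
  · rintro ⟨hy, h⟩
    exact ⟨⟨y, hy⟩, fun m => h m.1 m.2, rfl⟩

theorem coreIn_le (M X : Subgroup G) : coreIn M X ≤ M := fun _ hy => (mem_coreIn.mp hy).1

theorem coreIn_le_right (M X : Subgroup G) : coreIn M X ≤ X := fun y hy => by
  simpa using (mem_coreIn.mp hy).2 1 M.one_mem

theorem conj_mem_coreIn {M X : Subgroup G} {m y : G} (hm : m ∈ M) (hy : y ∈ coreIn M X) :
    m * y * m⁻¹ ∈ coreIn M X := by
  obtain ⟨h1, h2⟩ := mem_coreIn.mp hy
  refine mem_coreIn.mpr ⟨mul_mem (mul_mem hm h1) (inv_mem hm), fun n hn => ?_⟩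
  have := h2 (n * m) (mul_mem hn hm)
  rwa [show n * (m * y * m⁻¹) * n⁻¹ = n * m * y * (n * m)⁻¹ by group]

theorem map_coreIn (M X : Subgroup G) (e : G ≃* G) :
    (coreIn M X).map e.toMonoidHom = coreIn (M.map e.toMonoidHom) (X.map e.toMonoidHom) := by
  ext y
  rw [mem_coreIn, Subgroup.mem_map_equiv, mem_coreIn, Subgroup.mem_map_equiv]
  refine and_congr_right fun _ => ⟨fun h m hm => ?_, fun h m hm => ?_⟩
  · rw [Subgroup.mem_map_equiv] at hm
    rw [Subgroup.mem_map_equiv, map_mul, map_mul, map_inv]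
    exact h _ hm
  · have h' := h (e m) (by rw [Subgroup.mem_map_equiv]; simpa using hm)
    rw [Subgroup.mem_map_equiv] at h'
    simpa using h'

/-- Conjugation by `g` as a map on subgroups. -/
def cj (g : G) (H : Subgroup G) : Subgroup G := H.map (MulAut.conj g).toMonoidHom

theorem mem_cj {g y : G} {H : Subgroup G} : y ∈ cj g H ↔ g⁻¹ * y * g ∈ H := by
  rw [cj, Subgroup.mem_map_equiv, MulAut.conj_symm_apply]

/-- The iterated cores of `M` and its conjugate by `g`. -/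
def seq (M : Subgroup G) (g : G) : ℕ → Subgroup G
  | 0 => M
  | i + 1 => coreIn M (seq M g i ⊓ cj g (seq M g i))

theorem seq_le (M : Subgroup G) (g : G) : ∀ i, seq M g i ≤ M
  | 0 => le_rfl
  | _ + 1 => coreIn_le _ _

theorem conj_mem_seq (M : Subgroup G) (g : G) {m : G} (hm : m ∈ M) :
    ∀ i, ∀ {y : G}, y ∈ seq M g i → m * y * m⁻¹ ∈ seq M g i
  | 0, _, hy => mul_mem (mul_mem hm hy) (inv_mem hm)
  | _ + 1, _, hy => conj_mem_coreIn hm hy

theorem seq_cj (M : Subgroup G) {g : G} (hg : g * g = 1) (i : ℕ) :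
    cj g (seq M g (i + 1)) = coreIn (cj g M) (seq M g i ⊓ cj g (seq M g i)) := by
  rw [seq, cj, map_coreIn]
  congr 1
  ext y
  have hi : g⁻¹ = g := inv_eq_of_mul_eq_one_right hg
  rw [← cj, mem_cj, Subgroup.mem_inf, Subgroup.mem_inf, mem_cj, mem_cj, hi,
    show g * (g * y * g) * g = (g * g) * y * (g * g) by group, hg]
  simp [and_comm]

/-- A descending step: an element of `A_{i+1}` gives its conjugate in `A_i`. -/
theorem step_down (M : Subgroup G) (g : G) {i : ℕ} {y : G} (hy : y ∈ seq M g (i + 1)) :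
    g⁻¹ * y * g ∈ seq M g i :=
  mem_cj.mp (Subgroup.mem_inf.mp (coreIn_le_right _ _ hy)).2

/-- A normal subgroup inside `M` lies in all iterated cores. -/
theorem normalCore_le_seq (M : Subgroup G) (g : G) : ∀ i, M.normalCore ≤ seq M g i
  | 0 => M.normalCore_le
  | i + 1 => fun y hy => by
    refine mem_coreIn.mpr ⟨M.normalCore_le hy, fun m _ => ?_⟩
    have h : m * y * m⁻¹ ∈ M.normalCore := (Subgroup.normalCore_normal M).conj_mem y hy m
    refine Subgroup.mem_inf.mpr ⟨normalCore_le_seq M g i h, mem_cj.mpr (normalCore_le_seq M g i ?_)⟩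
    simpa using (Subgroup.normalCore_normal M).conj_mem _ h g⁻¹

/-- Packaging of the example from its properties. -/
theorem pack {G : Type} [Group G] [Finite G] (M : Subgroup G) (g : G) (hg : g * g = 1) (h1 : IsCoatom M)
    (h2 : M ≠ cj g M) (h3 : M.normalCore = ⊥) (h4 : seq M g 6 = ⊥) (h5 : seq M g 5 ≠ ⊥) :
    ∃ (G : Type) (_ : Group G) (_ : Finite G) (M₁ M₂ : Subgroup G) (g : G) (A B : ℕ → Subgroup G),
      IsCoatom M₁ ∧ M₂ = M₁.map (MulAut.conj g).toMonoidHom ∧ M₁ ≠ M₂ ∧ M₁.normalCore = ⊥ ∧ A 0 = M₁ ∧ B 0 = M₂ ∧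
      (∀ i, A (i + 1) = ((A i ⊓ B i).subgroupOf M₁).normalCore.map M₁.subtype) ∧
      (∀ i, B (i + 1) = ((A i ⊓ B i).subgroupOf M₂).normalCore.map M₂.subtype) ∧ A 6 = ⊥ ∧ A 5 ≠ ⊥ :=
  ⟨G, inferInstance, inferInstance, M, cj g M, g, seq M g, fun i => cj g (seq M g i),
    h1, rfl, h2, h3, rfl, rfl, fun _ => rfl, fun i => seq_cj M hg i, h4, h5⟩

end CfsgLib.E8Cores
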