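/-
Raising an element of the unipotent group over `F₂` by a commutator with a fundamental root element.
-/
import Cfsg.Agent.Lib.Chev.ParabolicFitting

namespace CfsgLib.E8Cores

open Cfsg.Lie CfsgLib.Chev Matrix

set_option linter.unusedSimpArgs false

variable {D : ChevalleyDatum} (Φ : Chev D)

theorem raise_mono {a b : ℤ} (ha : 0 ≤ a) (hb : 0 ≤ b) (hab : b ≤ a) :
    raiseSubgroup (R := ZMod 2) (fun x => 1 * Φ.toSys.codeIdx x) a ha ≤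
      raiseSubgroup (fun x => 1 * Φ.toSys.codeIdx x) b hb :=
  fun _ h => ⟨h.1.mono _ hab, h.2.mono _ hab⟩

theorem commute_step {r p q : Fin D.nroots} (hr : Φ.toTables.Pos r) (hpp : Φ.toTables.Pos p)
    (hqpos : Φ.toTables.Pos q) (hcq : Φ.toTables.code q = Φ.toTables.code r + Φ.toTables.code p)
    (hrp : r ≠ p) (hrev : r ≠ p.rev) {c : ℤ} (hc' : (c : ZMod 2) = 1)
    (hterms : D.commTerms p.val r.val = [(q.val, c, 1, 1)])
    {g y : GL D.Idx (ZMod 2)} (hg : g = Φ.toAlg.xg r 1 * y)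
    (hy1 : y ∈ raiseSubgroup (fun x => 1 * Φ.toSys.codeIdx x) (Φ.toTables.code r + 1)
      (by have := Φ.code_pos hr; omega)) :
    g⁻¹ * ((Φ.toAlg.xg p 1)⁻¹ * g * Φ.toAlg.xg p 1) ≠ 1 ∧
      g⁻¹ * ((Φ.toAlg.xg p 1)⁻¹ * g * Φ.toAlg.xg p 1) ∈
        raiseSubgroup (fun x => 1 * Φ.toSys.codeIdx x) (Φ.toTables.code q) (Φ.code_pos hqpos).le := by
  have hcr := Φ.code_pos hr
  have hcp := Φ.code_pos hpp
  have hcq0 : 0 ≤ Φ.toTables.code q := (Φ.code_pos hqpos).le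
  have hcom : Φ.toAlg.xg r (1 : ZMod 2) * Φ.toAlg.xg p 1 =
      Φ.toAlg.xg p 1 * Φ.toAlg.xg r 1 * Φ.toAlg.xg q 1 := by
    refine Units.ext ?_
    simp only [Units.val_mul, Alg.xg_val]
    rw [Φ.commutator_formula hrp hrev, hterms]
    simp [Sys.termProd, Sys.XN, hc', show (-1 : ZMod 2) = 1 by decide, q.isLt]
  set C := y⁻¹ * (Φ.toAlg.xg p 1)⁻¹ * y * Φ.toAlg.xg p 1 with hC
  have hh : g⁻¹ * ((Φ.toAlg.xg p 1)⁻¹ * g * Φ.toAlg.xg p 1) = y⁻¹ * Φ.toAlg.xg q 1 * y * C := by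
    have e : (Φ.toAlg.xg p (1 : ZMod 2))⁻¹ * Φ.toAlg.xg r 1 * Φ.toAlg.xg p 1 =
        Φ.toAlg.xg r 1 * Φ.toAlg.xg q 1 := by
      rw [mul_assoc, hcom]; group
    rw [hg, hC]
    calc (Φ.toAlg.xg r 1 * y)⁻¹ * ((Φ.toAlg.xg p 1)⁻¹ * (Φ.toAlg.xg r 1 * y) * Φ.toAlg.xg p 1)
        = y⁻¹ * (Φ.toAlg.xg r 1)⁻¹ * ((Φ.toAlg.xg p 1)⁻¹ * Φ.toAlg.xg r 1 * Φ.toAlg.xg p 1) *
          ((Φ.toAlg.xg p 1)⁻¹ * y * Φ.toAlg.xg p 1) := by group
      _ = _ := by rw [e]; group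
  have hy0 : y ∈ raiseSubgroup (fun x => 1 * Φ.toSys.codeIdx x) 0 le_rfl := raise_mono Φ _ _ (by omega) hy1
  have hC1 : C ∈ raiseSubgroup (fun x => 1 * Φ.toSys.codeIdx x) (Φ.toTables.code q + 1) (by omega) := by
    have := commutator_mem_raiseSubgroup (fun x => 1 * Φ.toSys.codeIdx x) (by omega) hcp.le (inv_mem hy1)
      (inv_mem (Φ.xg_mem_raise (F := ZMod 2) hpp 1))
    rw [inv_inv, inv_inv] at this
    exact raise_mono Φ _ _ (by omega) this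
  refine ⟨fun h1 => ?_, ?_⟩
  · rw [hh, mul_eq_one_iff_eq_inv] at h1
    have h2 : y⁻¹ * Φ.toAlg.xg q 1 * y ∈
        raiseSubgroup (fun x => 1 * Φ.toSys.codeIdx x) (Φ.toTables.code q + 1) (by omega) := by
      rw [h1]; exact inv_mem hC1
    have h3 := Φ.conj_mem_raise (g := y) (by omega : (0 : ℤ) ≤ Φ.toTables.code q + 1) hy0 h2
    rw [show y * (y⁻¹ * Φ.toAlg.xg q 1 * y) * y⁻¹ = Φ.toAlg.xg q 1 by group] at h3
    exact one_ne_zero (Φ.eq_zero_of_mem_raise hqpos _ (by omega) h3)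
  · rw [hh]
    refine mul_mem ?_ (raise_mono Φ _ _ (by omega) hC1)
    have := Φ.conj_mem_raise hcq0 (inv_mem hy0) (Φ.xg_mem_raise (F := ZMod 2) hqpos 1)
    rwa [inv_inv] at this

end CfsgLib.E8Cores
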