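/-
The parabolic subgroup of `E8(2)` at the node of highest coefficient: levels of its radical and its iterated cores.
-/
import Cfsg.Agent.Lib.E8Cores.Seq
import Cfsg.Agent.Lib.E8Cores.Step
import Cfsg.Agent.Lib.Chev.Inst
import Cfsg.Agent.Lib.Chev.Levi
import Cfsg.Agent.Lib.Chev.ParabolicFitting

namespace CfsgLib.E8Cores

open Cfsg.Lie CfsgLib.Chev Matrix

set_option linter.unusedSimpArgs false
set_option maxRecDepth 100000

/-- The datum of type E8. -/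
abbrev E8 : ChevalleyDatum := Cfsg.Lie.chevE8

/-- The package of type E8. -/
noncomputable abbrev Ψ : Chev E8 := CfsgLib.Chev.chevE8

/-- The node with coefficient six in the highest root. -/
def k3 : Fin E8.rank := ⟨3, by decide⟩

/-- The other nodes. -/
def J : Set ℕ := {j | j ≠ 3}

/-- The parabolic subgroup. -/
abbrev P : Subgroup (GL E8.Idx (ZMod 2)) := E8.parabolicSubgroup (ZMod 2) J

/-- The roots at level at least `c`. -/
def Lev (c : ℤ) (r : Fin E8.nroots) : Prop := c ≤ Ψ.V r k3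

/-- The root element over `F₂`. -/
noncomputable abbrev xr (r : Fin E8.nroots) : GL E8.Idx (ZMod 2) := Ψ.toAlg.xg r (1 : ZMod 2)

theorem zmod2_eq_one {a : ZMod 2} (ha : a ≠ 0) : a = 1 := by
  revert ha
  revert a
  decide

theorem eta_eq_one (i : Fin E8.rank) (s : Fin E8.nroots) : (Ψ.eta i s : ZMod 2) = 1 := by
  rcases Ψ.eta_unit i s with e | e <;> simp [e] <;> decide

theorem nw_conj (i : Fin E8.rank) (r : Fin E8.nroots) :
    Ψ.nw (Ψ.p i) 1 * xr r * (Ψ.nw (Ψ.p i) 1)⁻¹ = xr (Ψ.refl i r) := by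
  rw [xr, Ψ.nw_conj_xg, eta_eq_one, mul_one, mul_inv_cancel_right]

theorem nw_sq (i : Fin E8.rank) : Ψ.nw (Ψ.p i) (1 : (ZMod 2)ˣ) * Ψ.nw (Ψ.p i) 1 = 1 := by
  have h : (-1 : (ZMod 2)ˣ) = 1 := by decide
  have hc : Ψ.toAlg.cartanChar i (1 : (ZMod 2)ˣ) = 1 := by funext j; simp [Alg.cartanChar]
  rw [Ψ.nw_one_sq, h, hc, map_one]

theorem pos_of_lev {r : Fin E8.nroots} (h : 0 < Ψ.V r k3) : Ψ.toTables.Pos r := by
  by_contra hn
  have := Ψ.V_nonpos r hn k3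
  omega

theorem nonneg_of_gen {r : Fin E8.nroots} (hr : Ψ.toTables.Pos r ∨ Ψ.Sub (Chev.natSet J) r) :
    0 ≤ Ψ.V r k3 := by
  rcases hr with h | h
  · exact Ψ.V_nonneg r h k3
  · exact (h k3 (by simp [Chev.natSet, J, k3])).ge

theorem xg_normalizes {r : Fin E8.nroots} (hr : 0 ≤ Ψ.V r k3) (c : ℤ) (hc : 1 ≤ c) (t : ZMod 2) :
    Ψ.toAlg.xg r t ∈ Subgroup.normalizer (Ψ.US (ZMod 2) (Lev c) : Set (GL E8.Idx (ZMod 2))) := by
  have key : ∀ (a : ZMod 2) (u : GL E8.Idx (ZMod 2)), u ∈ Ψ.US (ZMod 2) (Lev c) →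
      Ψ.toAlg.xg r a * u * (Ψ.toAlg.xg r a)⁻¹ ∈ Ψ.US (ZMod 2) (Lev c) := by
    intro a u hu
    refine Ψ.conj_mem_of_gen (fun s v hs => ?_) hu
    by_cases hsr : s = r
    · subst hsr
      rw [← Ψ.toAlg.xg_add, Ψ.toAlg.xg_inv, ← Ψ.toAlg.xg_add, add_comm a v, add_assoc, add_neg_cancel,
        add_zero]
      exact Ψ.xg_mem_US hs v
    · have hs' : c ≤ Ψ.V s k3 := hs
      have h2 : s ≠ r.rev := fun e => by
        rw [e, Ψ.V_neg r] at hs'; omega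
      have := Ψ.conj_xg_mem (S := Lev c) hsr h2 hs (fun d hd => Ψ.commTerms_mem (Q := Lev c)
        (fun hN => by show c ≤ Ψ.V _ k3; rw [Ψ.V_add r s hN]; omega)
        (fun x (hx : c ≤ Ψ.V x k3) hN => by show c ≤ Ψ.V _ k3; rw [Ψ.V_add r x hN]; omega)
        (fun x (hx : c ≤ Ψ.V x k3) hN => by show c ≤ Ψ.V _ k3; rw [Ψ.V_add s x hN]; omega) hd) (-a) v
      rwa [← Ψ.toAlg.xg_inv, inv_inv] at this
  rw [Subgroup.mem_normalizer_iff]
  refine fun u => ⟨key t u, fun h => ?_⟩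
  have := key (-t) _ h
  rw [← Ψ.toAlg.xg_inv] at this
  simpa [mul_assoc] using this

theorem P_normalizes (c : ℤ) (hc : 1 ≤ c) :
    P ≤ Subgroup.normalizer (Ψ.US (ZMod 2) (Lev c) : Set (GL E8.Idx (ZMod 2))) := by
  rw [P, Ψ.parabolic_eq_gen]
  refine sup_le (Ψ.H_le_normalizer_US _) ((Subgroup.closure_le _).mpr ?_)
  rintro _ ⟨r, t, hr, rfl⟩
  exact xg_normalizes (nonneg_of_gen hr) c hc t

theorem lev_le_P (c : ℤ) (hc : 1 ≤ c) : Ψ.US (ZMod 2) (Lev c) ≤ P := by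
  rw [Chev.US, Subgroup.closure_le]
  rintro _ ⟨r, t, hr, rfl⟩
  exact Subgroup.mem_sup_left (Ψ.xg_mem_B (pos_of_lev (by have h : c ≤ Ψ.V r k3 := hr; omega)) t)

theorem refl_lev : ∀ r : Fin E8.nroots, 2 ≤ Ψ.V r k3 → Ψ.V r k3 - 1 ≤ Ψ.V (Ψ.refl k3 r) k3 := by
  decide +kernel

theorem lev_down {c : ℤ} (hc : 1 ≤ c) {x : GL E8.Idx (ZMod 2)} (hx : x ∈ Ψ.US (ZMod 2) (Lev (c + 1))) :
    (Ψ.nw (Ψ.p k3) 1)⁻¹ * x * Ψ.nw (Ψ.p k3) 1 ∈ Ψ.US (ZMod 2) (Lev c) := by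
  have hi : (Ψ.nw (Ψ.p k3) (1 : (ZMod 2)ˣ))⁻¹ = Ψ.nw (Ψ.p k3) 1 := inv_eq_of_mul_eq_one_right (nw_sq k3)
  have := Ψ.mono_conj_US (Ψ.nw_one_mono k3) (T := Lev c) (fun r (hr : c + 1 ≤ _) => ?_) hx
  · rw [hi] at this ⊢; exact this
  · show c ≤ Ψ.V (Ψ.refl k3 r) k3
    have := refl_lev r (by omega)
    omega

theorem xr_notMem {r : Fin E8.nroots} (hr : Ψ.V r k3 < 0) : xr r ∉ P := by
  intro h
  set l : Fin E8.rank → ℤ := fun j => if j = k3 then 1 else 0 with hl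
  have hlev : ∀ s, Ψ.toSys.lev l s = Ψ.V s k3 := fun s => by
    simp [Sys.lev, hl]
  have hle : P ≤ raiseSubgroup (fun x => 1 * Ψ.toSys.levIdx l x) 0 le_rfl := by
    rw [P, Ψ.parabolic_eq_gen]
    refine sup_le (fun h hh => ?_) ((Subgroup.closure_le _).mpr ?_)
    · have key : ∀ h ∈ E8.diagonalSubgroup (ZMod 2), Raises (fun x => 1 * Ψ.toSys.levIdx l x) 0
          ((h : Matrix E8.Idx E8.Idx (ZMod 2)) - 1) := by
        intro h hh x y hxy
        by_cases e : x = y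
        · subst e; simp
        · simp [Matrix.sub_apply, Ψ.diag_apply hh e, Matrix.one_apply_ne e] at hxy
      exact ⟨key h hh, key h⁻¹ (Subgroup.inv_mem _ hh)⟩
    · rintro _ ⟨s, t, hs, rfl⟩
      have hs' : 0 ≤ 1 * Ψ.toSys.lev l s := by rw [one_mul, hlev]; exact nonneg_of_gen hs
      exact ⟨Ψ.toSys.raises_X_lev l 1 0 s le_rfl hs' t, Ψ.toSys.raises_X_lev l 1 0 s le_rfl hs' (-t)⟩
  have h1 := (hle h).1 (Sum.inr r) (Sum.inr r.rev) (by
    rw [Matrix.sub_apply, Matrix.one_apply_ne (by simpa using Ne.symm (Ψ.toSys.rev_ne r)), sub_zero,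
      xr, Alg.xg_val, Ψ.toAlg.X_apply_neg_root]
    simp)
  simp only [Sys.levIdx, Sum.elim_inr, hlev, one_mul, Ψ.V_neg r] at h1
  omega

/-! ### The commutator with a fundamental root element -/

theorem raise_cert : ∀ r : Fin E8.nroots, E8.nroots ≤ 2 * r.val → r.val < 239 →
    ∃ i : Fin E8.rank, Ψ.N r (Ψ.p i) ≠ 0 ∧ ∃ c ∈ [(1 : ℤ), -1],
      E8.commTerms (Ψ.p i).val r.val = [((Ψ.S r (Ψ.p i)).val, c, 1, 1)] := by
  decide +kernel

/-- The highest root. -/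
def top : Fin E8.nroots := ⟨239, by decide⟩

/-- Elements above a root. -/
noncomputable abbrev Above (r : Fin E8.nroots) : Subgroup (GL E8.Idx (ZMod 2)) := Ψ.US (ZMod 2) (fun s => r < s)

theorem exists_lead {L : List (Fin E8.nroots)} {t : Fin E8.nroots → ZMod 2}
    (hs : L.Pairwise (· < ·)) (h : Ψ.prodL L t ≠ 1) :
    ∃ r ∈ L, ∃ y ∈ Above r, Ψ.prodL L t = xr r * y := by
  induction L with
  | nil => exact absurd rfl h
  | cons a L ih =>
    rw [List.pairwise_cons] at hs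
    have e : Ψ.prodL (a :: L) t = Ψ.toAlg.xg a (t a) * Ψ.prodL L t := by
      simp only [Chev.prodL, List.map_cons, List.prod_cons]
    by_cases ha : t a = 0
    · rw [e, ha, Ψ.toAlg.xg_zero, one_mul] at h ⊢
      obtain ⟨r, hr, y, hy, he⟩ := ih hs.2 h
      exact ⟨r, List.mem_cons_of_mem _ hr, y, hy, he⟩
    · exact ⟨a, List.mem_cons_self, _, Ψ.US_mono (fun s hs' => hs.1 s hs') (Ψ.prodL_mem_US L t),
        by rw [e, zmod2_eq_one ha]⟩

theorem above_top : Above top = ⊥ := by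
  rw [eq_bot_iff, Above, Chev.US, Subgroup.closure_le]
  rintro _ ⟨r, t, hr, rfl⟩
  have h1 := r.isLt
  have h2 : E8.nroots = 240 := rfl
  have h3 : 239 < r.val := hr
  omega

theorem above_le_raise {r : Fin E8.nroots} (hr : Ψ.toTables.Pos r) :
    Above r ≤ raiseSubgroup (fun x => 1 * Ψ.toSys.codeIdx x) (Ψ.toTables.code r + 1)
      (by have := Ψ.code_pos hr; omega) :=
  Ψ.US_le_raise 1 _ _ fun s hs => by
    have := Ψ.code_strictMono hs
    omega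

set_option maxHeartbeats 800000 in
/-- An element of `U` other than `1` and the highest root element can be raised by a commutator. -/
theorem raise_step {g : GL E8.Idx (ZMod 2)} {r : Fin E8.nroots} (hr : Ψ.toTables.Pos r) (hlt : r.val < 239)
    {y : GL E8.Idx (ZMod 2)} (hy : y ∈ Above r) (hg : g = xr r * y) :
    ∃ i q, ∃ hq : Ψ.toTables.Pos q, r < q ∧ g⁻¹ * ((xr (Ψ.p i))⁻¹ * g * xr (Ψ.p i)) ≠ 1 ∧
      g⁻¹ * ((xr (Ψ.p i))⁻¹ * g * xr (Ψ.p i)) ∈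
        raiseSubgroup (fun x => 1 * Ψ.toSys.codeIdx x) (Ψ.toTables.code q) (Ψ.code_pos hq).le := by
  obtain ⟨i, hN, c, hc, hterms⟩ := raise_cert r hr hlt
  have hpp := Ψ.p_pos i
  have hcq := Ψ.toSys.code_add hN
  have hqpos := Ψ.closed_pos r (Ψ.p i) hr hpp hN
  have hrq : r < Ψ.S r (Ψ.p i) := Ψ.code_strictMono.lt_iff_lt.mp (by have := Ψ.code_pos hpp; omega)
  have hrp : r ≠ Ψ.p i := fun e => hN (by rw [e, Ψ.N_self])
  have hrev : r ≠ (Ψ.p i).rev := fun e => (Ψ.pos_rev_iff _).mp (e ▸ hr) hpp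
  have hc' : (c : ZMod 2) = 1 := by
    rcases List.mem_cons.mp hc with rfl | hc
    · simp
    · rw [List.mem_singleton.mp hc]; decide
  exact ⟨i, _, hqpos, hrq, commute_step Ψ hr hpp hqpos hcq hrp hrev hc' hterms hg (above_le_raise hr hy)⟩

end CfsgLib.E8Cores
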