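/-
Iterated cores in `E8(2)`: six steps are needed and suffice.
-/
import Cfsg.Agent.Lib.E8Cores.Model

namespace CfsgLib.E8Cores

open Cfsg.Lie CfsgLib.Chev

set_option linter.unusedSimpArgs false
set_option maxRecDepth 100000

/-- The group `E8(2)`. -/
noncomputable abbrev GG : Subgroup (GL E8.Idx (ZMod 2)) := E8.group (ZMod 2)

/-- The maximal subgroup. -/
noncomputable abbrev M : Subgroup ↥GG := P.subgroupOf GG

/-- The conjugating involution. -/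
noncomputable def g3 : ↥GG := ⟨Ψ.nw (Ψ.p k3) 1, Ψ.nw_mem_group _ _⟩

/-- A root element of the group. -/
noncomputable def xG (r : Fin E8.nroots) : ↥GG := ⟨xr r, Ψ.toAlg.xg_mem_group _ _⟩

theorem g3_sq : g3 * g3 = 1 := Subtype.ext (nw_sq k3)

theorem xG_notMem {r : Fin E8.nroots} (hr : Ψ.V r k3 < 0) : xG r ∉ M := fun h => xr_notMem hr h

theorem xG_pos_mem {r : Fin E8.nroots} (hr : Ψ.toTables.Pos r) : xG r ∈ M :=
  (Subgroup.mem_sup_left (Ψ.xg_mem_B hr 1) : xr r ∈ P)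

theorem lev_le_seq : ∀ i : ℕ, ∀ x : ↥GG, (x : GL E8.Idx (ZMod 2)) ∈ Ψ.US (ZMod 2) (Lev (i + 1)) →
    x ∈ seq M g3 i
  | 0, x, hx => (lev_le_P _ le_rfl hx : (x : GL E8.Idx (ZMod 2)) ∈ P)
  | i + 1, x, hx => by
    refine mem_coreIn.mpr ⟨(lev_le_P _ (by omega) hx : (x : GL E8.Idx (ZMod 2)) ∈ P), fun m hm => ?_⟩
    have h1 := (Subgroup.mem_normalizer_iff.mp (P_normalizes _ (by omega) hm) _).mp hx
    refine Subgroup.mem_inf.mpr ⟨lev_le_seq i _ ?_, mem_cj.mpr (lev_le_seq i _ ?_)⟩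
    · refine Ψ.US_mono (fun r hr => ?_) h1
      simp only [Lev] at hr ⊢
      push_cast at hr
      omega
    · have h2 : m.1 * x.1 * m.1⁻¹ ∈ Ψ.US (ZMod 2) (Lev (((i : ℤ) + 1) + 1)) := by
        simpa using h1
      have := lev_down (by omega) h2
      simpa [g3, mul_assoc] using this

theorem top_mem_five : xG top ∈ seq M g3 5 :=
  lev_le_seq 5 _ (Ψ.xg_mem_US (S := Lev _) (show (((5 : ℕ) : ℤ) + 1) ≤ Ψ.V top k3 by decide +kernel) _)

theorem xG_ne_one (r : Fin E8.nroots) : xG r ≠ 1 := fun h => by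
  have := congrArg Subtype.val h
  rw [xG, Subgroup.coe_one, Ψ.toAlg.xg_eq_one_iff] at this
  exact one_ne_zero this

theorem five_ne_bot : seq M g3 5 ≠ ⊥ := fun h => xG_ne_one top (by simpa [h] using top_mem_five)

/-- Apply a word in the reflections other than the special one, then the special one. -/
noncomputable def walk (w : List (Fin E8.rank)) (r : Fin E8.nroots) : Fin E8.nroots :=
  Ψ.refl k3 (w.foldl (fun s i => Ψ.refl i s) r)

theorem nw_mem_M {j : Fin E8.rank} (hj : j ≠ k3) : (⟨Ψ.nw (Ψ.p j) 1, Ψ.nw_mem_group _ _⟩ : ↥GG) ∈ M := by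
  show Ψ.nw (Ψ.p j) 1 ∈ P
  rw [P, Ψ.parabolicSubgroup_eq]
  exact Subgroup.mem_sup_right (Subgroup.subset_closure ⟨j, fun e => hj (Fin.ext e), rfl⟩)

theorem word_mem {i : ℕ} : ∀ {w : List (Fin E8.rank)}, k3 ∉ w → ∀ {r}, xG r ∈ seq M g3 i →
    xG (w.foldl (fun s j => Ψ.refl j s) r) ∈ seq M g3 i
  | [], _, _, h => h
  | j :: w, hw, r, h => by
    rw [List.mem_cons, not_or] at hw
    refine word_mem hw.2 ?_
    have := conj_mem_seq M g3 (nw_mem_M (Ne.symm hw.1)) i h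
    rwa [show (⟨Ψ.nw (Ψ.p j) 1, Ψ.nw_mem_group _ _⟩ : ↥GG) * xG r *
      (⟨Ψ.nw (Ψ.p j) 1, Ψ.nw_mem_group _ _⟩ : ↥GG)⁻¹ = xG (Ψ.refl j r) from Subtype.ext (nw_conj j r)] at this

theorem walk_mem {i : ℕ} {w : List (Fin E8.rank)} (hw : k3 ∉ w) {r : Fin E8.nroots}
    (h : xG r ∈ seq M g3 (i + 1)) : xG (walk w r) ∈ seq M g3 i := by
  have := step_down M g3 (word_mem hw h)
  have hi : g3⁻¹ = g3 := inv_eq_of_mul_eq_one_right g3_sq
  rw [hi] at this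
  rwa [show g3 * xG (w.foldl (fun s j => Ψ.refl j s) r) * g3 = xG (walk w r) from ?_] at this
  rw [← eq_mul_inv_iff_mul_eq, hi]
  have h2 : g3 * xG (w.foldl (fun s j => Ψ.refl j s) r) * g3⁻¹ = xG (walk w r) := Subtype.ext (nw_conj k3 _)
  rw [← h2]; group

/-- A word in the nodes. -/
def wd (l : List (Fin 8)) : List (Fin E8.rank) := l

theorem top_notMem_six : xG top ∉ seq M g3 6 := fun h => by
  have h5 := walk_mem (w := wd [7, 6, 5, 4]) (by decide) h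
  have h4 := walk_mem (w := wd [1, 2]) (by decide) h5
  have h3 := walk_mem (w := wd [0, 2, 4]) (by decide) h4
  have h2 := walk_mem (w := wd [1, 5, 4]) (by decide) h3
  have h1 := walk_mem (w := wd [2, 6, 5, 4]) (by decide) h2
  have h0 := walk_mem (w := wd [0, 1, 2, 7, 6, 5, 4]) (by decide) h1
  refine xG_notMem ?_ (h0 : _ ∈ M)
  unfold walk
  decide +kernel

theorem span_ok : Chev.spanCert E8 = true := by decide +kernel

theorem top_mem_of_invariant {N : Subgroup ↥GG} (hNM : N ≤ M)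
    (hconj : ∀ m ∈ M, ∀ y ∈ N, m * y * m⁻¹ ∈ N) (hne : N ≠ ⊥) : xG top ∈ N := by
  classical
  have hU : ∀ {x : GL E8.Idx (ZMod 2)}, x ∈ E8.posUnipotent (ZMod 2) →
      ∃ hx : x ∈ GG, (⟨x, hx⟩ : ↥GG) ∈ M := fun hx =>
    have hP : _ ∈ P := Subgroup.mem_sup_left (Subgroup.mem_sup_left hx)
    ⟨(Ψ.mem_parabolicSubgroup.mp hP).1, hP⟩
  -- a non-trivial element in `U`
  obtain ⟨n, hn, hnU, hn1⟩ : ∃ n ∈ N, (n : GL E8.Idx (ZMod 2)) ∈ E8.posUnipotent (ZMod 2) ∧ n ≠ 1 := by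
    by_contra hall
    push Not at hall
    apply hne
    rw [Subgroup.eq_bot_iff_forall]
    intro n hn
    have hQU : E8.unipotentRadical (ZMod 2) J ≤ E8.posUnipotent (ZMod 2) := by
      rw [Ψ.unipotentRadical_eq, Ψ.posUnipotent_eq_US]
      exact Ψ.US_mono fun r hr => Chev.Out.pos Ψ hr
    refine hall n hn (Ψ.centralizer_radical_le span_ok (i0 := k3) (by simp [J, k3])
      (Subgroup.mem_inf.mpr ⟨hNM hn, Subgroup.mem_centralizer_iff.mpr fun y hy => ?_⟩))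
    obtain ⟨hyG, hyM⟩ := hU (hQU hy)
    set z : ↥GG := ⟨y, hyG⟩
    have h1 : n * z * n⁻¹ * z⁻¹ ∈ N := by
      rw [show n * z * n⁻¹ * z⁻¹ = n * (z * n⁻¹ * z⁻¹) by group]
      exact mul_mem hn (hconj z hyM _ (inv_mem hn))
    have h2 : (n : GL E8.Idx (ZMod 2)) * y * (n : GL E8.Idx (ZMod 2))⁻¹ * y⁻¹ ∈
        E8.unipotentRadical (ZMod 2) J :=
      mul_mem ((Subgroup.mem_normalizer_iff.mp (Ψ.parabolic_le_normalizer J (hNM hn)) y).mp hy) (inv_mem hy)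
    have h3 := hall _ h1 (hQU h2)
    have h4 : n * z = z * n := by
      rw [mul_inv_eq_one, mul_inv_eq_iff_eq_mul] at h3
      exact h3
    exact (congrArg Subtype.val h4).symm
  have hpU : ∀ r, Ψ.toTables.Pos r → xr r ∈ E8.posUnipotent (ZMod 2) := fun r hr => Ψ.xg_mem_U hr 1
  have lead : ∀ n : ↥GG, (n : GL E8.Idx (ZMod 2)) ∈ E8.posUnipotent (ZMod 2) → n ≠ 1 →
      ∃ r, Ψ.toTables.Pos r ∧ ∃ y ∈ Above r, (n : GL E8.Idx (ZMod 2)) = xr r * y := by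
    intro n hn hn1
    rw [Ψ.posUnipotent_eq_US] at hn
    obtain ⟨t, ht⟩ := (Ψ.mem_US_iff (fun _ h => h) Ψ.closed_pos).mp hn
    have h1 : Ψ.prodL (Chev.rootList Ψ.toTables.Pos) t ≠ 1 := fun e => hn1 (Subtype.ext (ht.trans e))
    obtain ⟨r, hr, y, hy, he⟩ := exists_lead (Chev.pairwise_rootList _) h1
    exact ⟨r, Chev.mem_rootList.mp hr, y, hy, ht.trans he⟩
  suffices key : ∀ m : ℕ, ∀ r, 239 - r.val ≤ m → Ψ.toTables.Pos r → ∀ n ∈ N,
      (n : GL E8.Idx (ZMod 2)) ∈ E8.posUnipotent (ZMod 2) → ∀ y ∈ Above r,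
      (n : GL E8.Idx (ZMod 2)) = xr r * y → xG top ∈ N by
    obtain ⟨r, hr, y, hy, he⟩ := lead n hnU hn1
    exact key _ r le_rfl hr n hn hnU y hy he
  intro m
  induction m with
  | zero =>
    intro r hr0 hr n hn _ y hy he
    have hr' : r = top := Fin.ext (by
      have := r.isLt
      have h : E8.nroots = 240 := rfl
      show r.val = 239
      omega)
    subst hr'
    rw [above_top, Subgroup.mem_bot] at hy
    subst hy
    rw [mul_one] at he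
    rwa [show xG top = n from Subtype.ext he.symm]
  | succ m ih =>
    intro r hr0 hr n hn hnU y hy he
    rcases Nat.lt_or_ge r.val 239 with hlt | hge
    swap
    · exact ih r (by omega) hr n hn hnU y hy he
    obtain ⟨i, q, hq, hrq, hne1, hW⟩ := raise_step hr hlt hy he
    set h : ↥GG := n⁻¹ * ((xG (Ψ.p i))⁻¹ * n * xG (Ψ.p i)) with hh
    have hxM : xG (Ψ.p i) ∈ M := xG_pos_mem (Ψ.p_pos i)
    have hhN : h ∈ N := by
      refine mul_mem (inv_mem hn) ?_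
      simpa using hconj _ (inv_mem hxM) n hn
    have hhU : (h : GL E8.Idx (ZMod 2)) ∈ E8.posUnipotent (ZMod 2) := by
      show (n : GL E8.Idx (ZMod 2))⁻¹ * ((xr (Ψ.p i))⁻¹ * n * xr (Ψ.p i)) ∈ E8.posUnipotent (ZMod 2)
      exact mul_mem (inv_mem hnU) (mul_mem (mul_mem (inv_mem (hpU _ (Ψ.p_pos i))) hnU) (hpU _ (Ψ.p_pos i)))
    have hh1 : h ≠ 1 := fun e => hne1 (by
      have := congrArg Subtype.val e
      simpa only [hh, xG, Subgroup.coe_mul, InvMemClass.coe_inv, Subgroup.coe_one] using this)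
    obtain ⟨r', hr', y', hy', he'⟩ := lead h hhU hh1
    refine ih r' ?_ hr' h hhN hhU y' hy' he'
    by_contra hc
    have hle : r'.val ≤ r.val := by omega
    have hlt' : Ψ.toTables.code r' < Ψ.toTables.code q :=
      Ψ.code_strictMono (lt_of_le_of_lt hle hrq)
    have e1 : xr r' = (h : GL E8.Idx (ZMod 2)) * y'⁻¹ := by rw [he', mul_inv_cancel_right]
    have h0 : xr r' ∈ raiseSubgroup (fun x => 1 * Ψ.toSys.codeIdx x) (Ψ.toTables.code r' + 1)
        (by have := Ψ.code_pos hr'; omega) := by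
      rw [e1]
      exact mul_mem (raise_mono Ψ _ _ (by omega) hW) (inv_mem (above_le_raise hr' hy'))
    exact one_ne_zero (Ψ.eq_zero_of_mem_raise hr' _ (by omega) h0)

theorem six_eq_bot : seq M g3 6 = ⊥ := by
  by_contra h
  exact top_notMem_six (top_mem_of_invariant (seq_le M g3 6) (fun m hm y hy => conj_mem_seq M g3 hm 6 hy) h)

theorem core_eq_bot : M.normalCore = ⊥ := by
  rw [eq_bot_iff, ← six_eq_bot]
  exact normalCore_le_seq M g3 6

theorem g3_notMem : g3 ∉ M := by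
  intro h
  have h1 := mul_mem (mul_mem h (xG_pos_mem (Ψ.p_pos k3))) (inv_mem h)
  rw [show g3 * xG (Ψ.p k3) * g3⁻¹ = xG (Ψ.refl k3 (Ψ.p k3)) from Subtype.ext (nw_conj k3 _), Ψ.refl_p] at h1
  refine xG_notMem ?_ h1
  rw [Ψ.V_neg (Ψ.p k3), Ψ.V_p, if_pos rfl]
  norm_num

theorem mem_M_of_cj {x : ↥GG} (h : M = cj g3 M) (hx : x ∈ M) : g3 * x * g3⁻¹ ∈ M := by
  have hi : g3⁻¹ = g3 := inv_eq_of_mul_eq_one_right g3_sq
  have h1 : g3⁻¹ * x * g3 ∈ M := mem_cj.mp (le_of_eq h hx)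
  rw [hi] at h1 ⊢
  exact h1

theorem M_ne_conj : M ≠ cj g3 M := fun h => by
  have h1 := mem_M_of_cj h (xG_pos_mem (Ψ.p_pos k3))
  rw [show g3 * xG (Ψ.p k3) * g3⁻¹ = xG (Ψ.refl k3 (Ψ.p k3)) from Subtype.ext (nw_conj k3 _), Ψ.refl_p] at h1
  refine xG_notMem ?_ h1
  rw [Ψ.V_neg (Ψ.p k3), Ψ.V_p, if_pos rfl]
  norm_num

theorem isCoatom_M : IsCoatom M := by
  refine ⟨fun h => g3_notMem (h ▸ Subgroup.mem_top _), fun K hK => ?_⟩
  have hB : (Ψ.bnPair (ZMod 2)).B ≤ K := fun b hb =>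
    hK.le (Subgroup.mem_sup_left hb : (b : GL E8.Idx (ZMod 2)) ∈ P)
  have hS : ∀ j, j ≠ k3 → (⟨Ψ.nw (Ψ.p j) 1, Ψ.nw_mem_group _ _⟩ : ↥GG) ∈ K := fun j hj =>
    hK.le (nw_mem_M hj)
  by_cases hg : g3 ∈ K
  · rw [eq_top_iff, ← CfsgLib.BN.parabolic_S (Ψ.bnPair (ZMod 2))]
    refine sup_le hB ((Subgroup.closure_le _).mpr ?_)
    rintro _ ⟨j, rfl⟩
    by_cases hj : j = k3
    · subst hj; exact hg
    · exact hS j hj
  · exfalso
    refine hK.not_ge (fun x hx => ?_)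
    rw [CfsgLib.BN.eq_parabolic (Ψ.bnPair (ZMod 2)) hB] at hx
    refine (sup_le (?_ : (Ψ.bnPair (ZMod 2)).B ≤ M) ((Subgroup.closure_le _).mpr ?_) :
      (Ψ.bnPair (ZMod 2)).parabolic _ ≤ M) hx
    · exact fun b hb => (Subgroup.mem_sup_left hb : (b : GL E8.Idx (ZMod 2)) ∈ P)
    · rintro _ ⟨⟨j, rfl⟩, hj⟩
      exact nw_mem_M fun e => hg (by subst e; exact hj)

theorem example_E8 :
    ∃ (G : Type) (_ : Group G) (_ : Finite G) (M₁ M₂ : Subgroup G) (g : G) (A B : ℕ → Subgroup G),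
      IsCoatom M₁ ∧ M₂ = M₁.map (MulAut.conj g).toMonoidHom ∧ M₁ ≠ M₂ ∧ M₁.normalCore = ⊥ ∧ A 0 = M₁ ∧ B 0 = M₂ ∧
      (∀ i, A (i + 1) = ((A i ⊓ B i).subgroupOf M₁).normalCore.map M₁.subtype) ∧
      (∀ i, B (i + 1) = ((A i ⊓ B i).subgroupOf M₂).normalCore.map M₂.subtype) ∧ A 6 = ⊥ ∧ A 5 ≠ ⊥ :=
  pack M g3 g3_sq isCoatom_M M_ne_conj core_eq_bot six_eq_bot five_ne_bot

end CfsgLib.E8Cores
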